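import Cfsg.Agent.Characters.Core
import Cfsg.Agent.CharactersDeep.NormalInd

/-!
# S4884, 3b-4: an irreducible character over two given ones (helper381)

`G = K L`, `K`, `L` normal, `α`, `β` irreducible characters of `K`, `L` which agree on `K ∩ L`: some irreducible
character of `G` lies over both.
-/

set_option autoImplicit false

open scoped ComplexConjugate
open Cfsg Subgroup

namespace Cfsg.Agent.H381.PB

open Cfsg.Agent.Characters.Core (isIrr_isClassFunction isIrr_apply_one_ne_zero classInner_conj_symm)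
open Cfsg.Agent.CharactersDeep.NormalInd

universe u

/-- values on `K ∩ L` are invariant -/
theorem beta_inv {G : Type u} [Group G] (K L : Subgroup G) [hKn : K.Normal] [hLn : L.Normal] (hKL : K ⊔ L = ⊤)
    {α : K → ℂ} {β : L → ℂ} (hα : IsClassFunction K α) (hβ : IsClassFunction L β)
    (h : ∀ x (hx : x ∈ K) (hx' : x ∈ L), α ⟨x, hx⟩ = β ⟨x, hx'⟩) (g x : G) (hx : x ∈ K) (hx' : x ∈ L) :
    β ⟨g * x * g⁻¹, hLn.conj_mem x hx' g⟩ = β ⟨x, hx'⟩ := by
  obtain ⟨k, hk, l, hl, rfl⟩ := mem_sup_of_normal_left.1 (hKL ▸ mem_top g : g ∈ K ⊔ L)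
  -- conjugation by `l`
  have h1 : β ⟨l * x * l⁻¹, hLn.conj_mem x hx' l⟩ = β ⟨x, hx'⟩ := hβ ⟨x, hx'⟩ ⟨l, hl⟩
  have h2 : l * x * l⁻¹ ∈ K := hKn.conj_mem x hx l
  have h3 : l * x * l⁻¹ ∈ L := hLn.conj_mem x hx' l
  have h4 : k * (l * x * l⁻¹) * k⁻¹ ∈ K := hKn.conj_mem _ h2 k
  have h5 : k * (l * x * l⁻¹) * k⁻¹ ∈ L := hLn.conj_mem _ h3 k
  have h6 : α ⟨k * (l * x * l⁻¹) * k⁻¹, h4⟩ = α ⟨l * x * l⁻¹, h2⟩ := hα ⟨l * x * l⁻¹, h2⟩ ⟨k, hk⟩
  rw [h _ h4 h5, h _ h2 h3, h1] at h6
  rw [← h6]
  congr 2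
  group

/-- **3b-4** -/
theorem exists_over_both {G : Type u} [Group G] [Finite G] (K L : Subgroup G) [K.Normal] [hLn : L.Normal] [Fintype K]
    [Fintype L] (hKL : K ⊔ L = ⊤) (α : IrrCharacter K) (β : IrrCharacter L)
    (h : ∀ x (hx : x ∈ K) (hx' : x ∈ L), (α : K → ℂ) ⟨x, hx⟩ = (β : L → ℂ) ⟨x, hx'⟩) :
    ∃ χ : IrrCharacter G, classInner (fun n : K => (χ : G → ℂ) n) (α : K → ℂ) ≠ 0 ∧
      classInner (fun n : L => (χ : G → ℂ) n) (β : L → ℂ) ≠ 0 := by
  classical
  have := Fintype.ofFinite G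
  have hfin' : Finite (IrrCharacter G) := Characters.Core.finite_irr
  have hfin : Fintype (IrrCharacter G) := Fintype.ofFinite _
  have hα := isIrr_isClassFunction α.2
  have hβ := isIrr_isClassFunction β.2
  -- the induced functions are not orthogonal
  have hne : classInner (indFun K (α : K → ℂ)) (indFun L (β : L → ℂ)) ≠ 0 := by
    rw [classInner_indFun K _ _ (indFun_isClassFunction L _)]
    have hval : ∀ k : K, (α : K → ℂ) k * conj (indFun L (β : L → ℂ) k) =
        if (k : G) ∈ L then ((L.index : ℝ) * ‖(α : K → ℂ) k‖ ^ 2 : ℂ) else 0 := by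
      intro k
      split_ifs with hk
      · have h1 : indFun L (β : L → ℂ) k = L.index * (β : L → ℂ) ⟨k, hk⟩ := by
          rw [indFun_apply]
          have h2 : ∀ x : G, extendByZero L (β : L → ℂ) (x⁻¹ * k * x) = (β : L → ℂ) ⟨k, hk⟩ := by
            intro x
            have h3 := beta_inv K L hKL hα hβ h x⁻¹ k k.2 hk
            have h4 : x⁻¹ * (k : G) * x ∈ L := by
              have := hLn.conj_mem _ hk x⁻¹
              rwa [inv_inv] at this
            rw [extendByZero_of_mem L _ h4, ← h3]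
            exact congrArg (β : L → ℂ) (Subtype.ext (by show x⁻¹ * (k : G) * x = x⁻¹ * k * x⁻¹⁻¹; rw [inv_inv]))
          simp only [h2, Finset.sum_const, Finset.card_univ, nsmul_eq_mul]
          have h5 : (Nat.card L : ℂ) ≠ 0 := Nat.cast_ne_zero.2 Nat.card_pos.ne'
          rw [← Nat.card_eq_fintype_card, ← L.card_mul_index]
          push_cast
          field_simp
        rw [h1, ← h k k.2 hk, map_mul, Complex.conj_natCast]
        have h6 : (α : K → ℂ) ⟨k, k.2⟩ = (α : K → ℂ) k := rfl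
        rw [h6]
        have h7 : (α : K → ℂ) k * conj ((α : K → ℂ) k) = (‖(α : K → ℂ) k‖ ^ 2 : ℝ) := by
          rw [Complex.mul_conj, Complex.normSq_eq_norm_sq]
        calc (α : K → ℂ) k * ((L.index : ℂ) * conj ((α : K → ℂ) k)) =
            (L.index : ℂ) * ((α : K → ℂ) k * conj ((α : K → ℂ) k)) := by ring
          _ = _ := by rw [h7]; push_cast; ring
      · have h1 : indFun L (β : L → ℂ) k = 0 := by
          rw [indFun_apply]
          have h2 : ∀ x : G, extendByZero L (β : L → ℂ) (x⁻¹ * k * x) = 0 := by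
            intro x
            apply extendByZero_of_not_mem
            intro h3
            apply hk
            have h4 := hLn.conj_mem _ h3 x
            have e : x * (x⁻¹ * (k : G) * x) * x⁻¹ = k := by group
            rwa [e] at h4
          simp [h2]
        rw [h1, map_zero, mul_zero]
    unfold classInner
    simp only [hval]
    refine mul_ne_zero (inv_ne_zero (Nat.cast_ne_zero.2 Nat.card_pos.ne')) ?_
    have hr : (∑ k : K, if (k : G) ∈ L then ((L.index : ℝ) * ‖(α : K → ℂ) k‖ ^ 2 : ℂ) else 0) =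
        ((∑ k : K, if (k : G) ∈ L then ((L.index : ℝ) * ‖(α : K → ℂ) k‖ ^ 2 : ℝ) else 0 : ℝ) : ℂ) := by
      rw [Complex.ofReal_sum]
      refine Finset.sum_congr rfl fun k _ => ?_
      split_ifs
      · push_cast; ring
      · simp
    rw [hr, Complex.ofReal_ne_zero]
    apply ne_of_gt
    refine Finset.sum_pos' (fun k _ => ?_) ⟨1, Finset.mem_univ _, ?_⟩
    · split_ifs
      · positivity
      · exact le_rfl
    · rw [if_pos (by rw [OneMemClass.coe_one]; exact L.one_mem)]
      have h1 : (0 : ℝ) < L.index := Nat.cast_pos.2 (Nat.pos_of_ne_zero index_ne_zero_of_finite)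
      have h2 : (α : K → ℂ) 1 ≠ 0 := isIrr_apply_one_ne_zero α.2
      positivity
  rw [Characters.Core.classInner_eq_sum (indFun_isClassFunction K _) (indFun_isClassFunction L _)] at hne
  obtain ⟨χ, -, hχ⟩ := Finset.exists_ne_zero_of_sum_ne_zero hne
  have h1 := left_ne_zero_of_mul hχ
  have h2 : classInner (indFun L (β : L → ℂ)) (χ : G → ℂ) ≠ 0 := by
    intro h0
    apply right_ne_zero_of_mul hχ
    rw [h0, map_zero]
  rw [classInner_indFun K _ _ (isIrr_isClassFunction χ.2)] at h1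
  rw [classInner_indFun L _ _ (isIrr_isClassFunction χ.2)] at h2
  have hsymm : ∀ {H : Subgroup G} [Fintype H] (a b : H → ℂ), classInner a b ≠ 0 → classInner b a ≠ 0 := by
    intro H _ a b hab h0
    apply hab
    rw [← classInner_conj_symm, h0, map_zero]
  exact ⟨χ, hsymm _ _ h1, hsymm _ _ h2⟩

end Cfsg.Agent.H381.PB
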