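import Cfsg.Agent.H381.PB.KW
import Cfsg.Agent.H319.PQ.Red2

/-!
# S4884, 3b-2 (helper381)
-/

set_option autoImplicit false
set_option linter.unusedSectionVars false

open scoped ComplexConjugate
open Cfsg Subgroup

namespace Cfsg.Agent.H381.PB

open Cfsg.Agent.Characters.Core (isIrr_isClassFunction classFunction_eq_sum)
open Cfsg.Agent.H319.PQ.Red2

universe u

/-- a constituent between -/
theorem exists_between {G : Type u} [Group G] [Finite G] {K W : Subgroup G} (hKW : K ≤ W) [Fintype K] [Fintype W]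
    (χ : IrrCharacter G) (θ : IrrCharacter K) (h : classInner (fun n : K => (χ : G → ℂ) n) (θ : K → ℂ) ≠ 0) :
    ∃ η : IrrCharacter W, classInner (fun n : W => (χ : G → ℂ) n) (η : W → ℂ) ≠ 0 ∧
      classInner (fun n : K => (η : W → ℂ) ⟨n, hKW n.2⟩) (θ : K → ℂ) ≠ 0 := by
  classical
  have hfin' : Finite (IrrCharacter W) := Characters.Core.finite_irr
  have hfin : Fintype (IrrCharacter W) := Fintype.ofFinite _
  have hcl : IsClassFunction W (fun n : W => (χ : G → ℂ) n) := by
    intro g x
    exact isIrr_isClassFunction χ.2 g x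
  have h1 := classFunction_eq_sum hcl
  have h2 : (fun n : K => (χ : G → ℂ) n) = fun n : K => ∑ η : IrrCharacter W,
      classInner (fun n : W => (χ : G → ℂ) n) (η : W → ℂ) * (η : W → ℂ) ⟨n, hKW n.2⟩ := by
    funext n
    have h3 := congrFun h1 ⟨n, hKW n.2⟩
    simp only [Finset.sum_apply, Pi.smul_apply, smul_eq_mul] at h3
    exact h3
  rw [h2] at h
  have h4 : classInner (fun n : K => ∑ η : IrrCharacter W,
      classInner (fun n : W => (χ : G → ℂ) n) (η : W → ℂ) * (η : W → ℂ) ⟨n, hKW n.2⟩) (θ : K → ℂ) =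
      ∑ η : IrrCharacter W, classInner (fun n : W => (χ : G → ℂ) n) (η : W → ℂ) *
        classInner (fun n : K => (η : W → ℂ) ⟨n, hKW n.2⟩) (θ : K → ℂ) := by
    unfold classInner
    simp only [Finset.sum_mul, Finset.mul_sum]
    rw [Finset.sum_comm]
    refine Finset.sum_congr rfl fun η _ => ?_
    refine Finset.sum_congr rfl fun n _ => ?_
    refine Finset.sum_congr rfl fun w _ => ?_
    ring
  rw [h4] at h
  obtain ⟨η, -, hη⟩ := Finset.exists_ne_zero_of_sum_ne_zero h
  exact ⟨η, left_ne_zero_of_mul hη, right_ne_zero_of_mul hη⟩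

/-- transport of the over relation -/
theorem classInner_equiv {A B : Type u} [Group A] [Group B] [Fintype A] [Fintype B] (e : A ≃* B) (f g : B → ℂ) :
    classInner (fun a => f (e a)) (fun a => g (e a)) = classInner f g := by
  unfold classInner
  rw [Nat.card_congr e.toEquiv]
  congr 1
  exact Fintype.sum_equiv e.toEquiv _ _ fun a => rfl

variable {p : ℕ} [hp : Fact p.Prime] {M : Ideal AlgInt} {G : Type u} [Group G] [Finite G]

/-- a `p`-power section and then a self-centralizing one -/
theorem mem_of_over_KW (hM : IsPModular p M) {K W : Subgroup G} [K.Normal] [W.Normal] (hKW : K ≤ W)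
    (hj : ∃ j, K.relIndex W = p ^ j) (U : Sylow p W)
    (hU : centralizer (((U : Subgroup W).map W.subtype : Subgroup G) : Set G) ≤ W) [Fintype K] (θ : IrrCharacter K)
    (χ : IrrCharacter G) (hθ : θ ∈ principalBlock M K)
    (h : classInner (fun n : K => (χ : G → ℂ) n) (θ : K → ℂ) ≠ 0) : χ ∈ principalBlock M G := by
  classical
  have hprime : M.IsPrime := hM.2.1.isPrime
  have hW : Fintype W := Fintype.ofFinite _
  obtain ⟨η, h1, h2⟩ := exists_between hKW χ θ h
  let e : K.subgroupOf W ≃* K := subgroupOfEquivOfLe hKW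
  have h3 := H133.PB.mem_principalBlock_comp e.toMonoidHom e.surjective hθ
  have hf : Fintype (K.subgroupOf W) := Fintype.ofFinite _
  have h4 : η ∈ principalBlock M W := by
    refine mem_of_index_pow hM (K.subgroupOf W) hj h3 ?_
    have h5 := classInner_equiv e (fun n : K => (η : W → ℂ) ⟨n, hKW n.2⟩) (θ : K → ℂ)
    have h6 : classInner (fun n : K.subgroupOf W => (η : W → ℂ) n) (fun n : K.subgroupOf W => (θ : K → ℂ) (e n)) ≠ 0 := by
      have h7 : (fun n : K.subgroupOf W => (η : W → ℂ) n) =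
          fun n : K.subgroupOf W => (fun n : K => (η : W → ℂ) ⟨n, hKW n.2⟩) (e n) := by
        funext n
        rfl
      rw [h7, h5]
      exact h2
    exact h6
  exact mem_of_centralizer_le hM W U hU h4 h1

/-- **3b-2** -/
theorem exists_K (hM : IsPModular p M) (S : Subgroup G) [S.Normal] (hsol : Group.IsSolvable (G ⧸ S)) (P : Sylow p S) :
    ∃ K : Subgroup G, K.Normal ∧ S ≤ K ∧ ¬ p ∣ S.relIndex K ∧
      K ≤ S ⊔ centralizer (((P : Subgroup S).map S.subtype : Subgroup G) : Set G) ∧
      ∀ [Fintype K] (θ : IrrCharacter K) (χ : IrrCharacter G), θ ∈ principalBlock M K →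
        classInner (fun n : K => (χ : G → ℂ) n) (θ : K → ℂ) ≠ 0 → χ ∈ principalBlock M G := by
  obtain ⟨K, W, hKn, hWn, hSK, hKW, hKp, hKM, hj, U, hU⟩ := exists_KW S hsol P
  exact ⟨K, hKn, hSK, hKp, hKM, fun θ χ hθ h => mem_of_over_KW hM hKW hj U hU θ χ hθ h⟩

end Cfsg.Agent.H381.PB
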