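import Cfsg.Agent.H381.PB.Comm
import Cfsg.Agent.Lib.Cores
import Cfsg.Agent.Lib.HallHigman

/-!
# S4884, 3b-2, the group theory (helper381)

`S` normal in `G`, `G ⧸ S` solvable, `P` a Sylow `p`-subgroup of `S`. There are normal subgroups `S ≤ K ≤ W`, with
`p ∤ |K : S|`, `K ≤ S C_G(P)`, `|W : K|` a power of `p` and `C_G(U) ≤ W` for a Sylow `p`-subgroup `U` of `W`.
-/

set_option autoImplicit false

namespace Cfsg.Agent.H381.PB

open Cfsg Subgroup Pointwise Cfsg.Agent.Lib.SylowNormalInf

universe u

variable {p : ℕ} [hp : Fact p.Prime] {G : Type u} [Group G] [Finite G]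

omit hp [Finite G] in
theorem normal_map_char (Y : Subgroup G) [Y.Normal] (B : Subgroup Y) [B.Characteristic] : (B.map Y.subtype).Normal :=
  inferInstance

omit hp [Finite G] in
theorem relIndex_comap_mk (K : Subgroup G) [K.Normal] (B : Subgroup (G ⧸ K)) :
    K.relIndex (B.comap (QuotientGroup.mk' K)) = Nat.card B := by
  have h1 : (⊥ : Subgroup (G ⧸ K)).comap (QuotientGroup.mk' K) = K := by
    rw [MonoidHom.comap_bot, QuotientGroup.ker_mk']
  have h2 : ((⊥ : Subgroup (G ⧸ K)).comap (QuotientGroup.mk' K)).relIndex (B.comap (QuotientGroup.mk' K)) = Nat.card B := by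
    rw [relIndex_comap, map_comap_eq_self_of_surjective (QuotientGroup.mk'_surjective K), relIndex_bot_left]
  rwa [h1] at h2

/-- **the group theory of 3b-2** -/
theorem exists_KW (S : Subgroup G) [S.Normal] (hsol : Group.IsSolvable (G ⧸ S)) (P : Sylow p S) :
    ∃ K W : Subgroup G, K.Normal ∧ W.Normal ∧ S ≤ K ∧ K ≤ W ∧ ¬ p ∣ S.relIndex K ∧
      K ≤ S ⊔ centralizer (((P : Subgroup S).map S.subtype : Subgroup G) : Set G) ∧ (∃ j, K.relIndex W = p ^ j) ∧
      ∃ U : Sylow p W, centralizer (((U : Subgroup W).map W.subtype : Subgroup G) : Set G) ≤ W := by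
  set P1 : Subgroup G := (P : Subgroup S).map S.subtype with hP1
  set M : Subgroup G := S ⊔ centralizer (P1 : Set G) with hM
  have hMn : M.Normal := sup_centralizer_normal S P
  have hP1S : P1 ≤ S := map_subtype_le _
  -- the maximal `K`
  set s : Set (Subgroup G) := {K | K.Normal ∧ S ≤ K ∧ K ≤ M ∧ ¬ p ∣ S.relIndex K} with hs
  obtain ⟨K, hK⟩ := (Set.toFinite s).exists_maximal ⟨S, inferInstance, le_rfl, le_sup_left, by
    rw [relIndex_self]; exact hp.1.not_dvd_one⟩
  obtain ⟨⟨hKn, hSK, hKM, hKp⟩, hKmax⟩ := hK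
  set π := QuotientGroup.mk' K with hπ
  have hπs : Function.Surjective π := QuotientGroup.mk'_surjective K
  have hker : π.ker = K := QuotientGroup.ker_mk' K
  -- `G ⧸ K` is solvable
  have hsolK : Group.IsSolvable (G ⧸ K) := by
    have hle : S ≤ K.comap (MonoidHom.id G) := by rw [comap_id]; exact hSK
    refine Group.isSolvable_of_surjective (f := QuotientGroup.map S K (MonoidHom.id G) hle) ?_
    intro y
    obtain ⟨x, rfl⟩ := hπs y
    exact ⟨QuotientGroup.mk' S x, rfl⟩
  set A : Subgroup (G ⧸ K) := M.map π with hA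
  have hAn : A.Normal := hMn.map π hπs
  have hAsol : Group.IsSolvable A := inferInstance
  have hcA : A.comap π = M := by
    rw [hA, comap_map_eq, hker, sup_eq_left]
    exact hKM
  -- the `p'`-core is trivial
  have hpc : pPrimeCore p A = ⊥ := by
    have hchar : (pPrimeCore p A).Characteristic := Lib.Cores.pPrimeCore_characteristic p
    set B : Subgroup (G ⧸ K) := (pPrimeCore p A).map A.subtype with hB
    have hBn : B.Normal := normal_map_char A _
    have h1 : K ≤ B.comap π := by
      have h0 := ker_le_comap π B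
      rwa [hker] at h0
    have h2 : K.relIndex (B.comap π) = Nat.card B := relIndex_comap_mk K B
    have hcB : (Nat.card B).Coprime p := by
      rw [hB, card_map_of_injective A.subtype_injective]
      exact Lib.HallHigman.pPrimeCore_coprime p
    have hmem : B.comap π ∈ s := by
      refine ⟨hBn.comap π, hSK.trans h1, ?_, ?_⟩
      · rw [← hcA]
        exact comap_mono (map_subtype_le _)
      · rw [← relIndex_mul_relIndex S K _ hSK h1, h2]
        intro hd
        rcases hp.1.dvd_mul.1 hd with h3 | h3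
        · exact hKp h3
        · exact (Nat.Prime.coprime_iff_not_dvd hp.1).1 hcB.symm h3
    have h3 := hKmax hmem h1
    have h4 : Nat.card B = 1 := by
      rw [← h2, relIndex_eq_one]
      exact h3
    have h5 : Nat.card (pPrimeCore p A) = 1 := by
      rw [hB, card_map_of_injective A.subtype_injective] at h4
      exact h4
    exact eq_bot_of_card_eq _ h5
  have hHH : centralizer ((pCore p A : Subgroup A) : Set A) ≤ pCore p A :=
    Lib.HallHigman.centralizer_pCore_le_of_solvable p hpc
  -- `W`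
  have hchar2 : (pCore p A).Characteristic := Lib.Cores.pCore_characteristic p
  set B2 : Subgroup (G ⧸ K) := (pCore p A).map A.subtype with hB2
  have hB2n : B2.Normal := normal_map_char A _
  set W : Subgroup G := B2.comap π with hW
  have hWn : W.Normal := hB2n.comap π
  have hKW : K ≤ W := by
    have h1 := ker_le_comap π B2
    rwa [hker] at h1
  have hBp : IsPGroup p B2 := (Lib.HallHigman.pCore_isPGroup p).map A.subtype
  have hidx : ∃ j, K.relIndex W = p ^ j := by
    rw [hW, relIndex_comap_mk]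
    exact IsPGroup.iff_card.1 hBp
  -- the Sylow subgroup
  have hP1p : IsPGroup p P1 := P.isPGroup'.map S.subtype
  obtain ⟨T, hT⟩ := hP1p.exists_le_sylow
  have hWle : W ≤ K ⊔ ((T : Subgroup G) ⊓ W) := by
    refine le_sup_inf T W K ?_
    intro x hx
    obtain ⟨k, hk⟩ := hBp ⟨π x, hx⟩
    refine ⟨k, ?_⟩
    rw [← hker, MonoidHom.mem_ker, map_pow]
    exact congrArg Subtype.val hk
  have hTi : ¬ p ∣ ((T : Subgroup G).subgroupOf W).index := not_dvd_relIndex T W
  have hTm : ((((isPGroup_subgroupOf T W).toSylow hTi : Sylow p W) : Subgroup W).map W.subtype : Subgroup G) =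
      (T : Subgroup G) ⊓ W := subgroupOf_map_subtype _ _
  refine ⟨K, W, hKn, hWn, hSK, hKW, hKp, hKM, hidx, (isPGroup_subgroupOf T W).toSylow hTi, ?_⟩
  rw [hTm]
  intro x hx
  rw [mem_centralizer_iff] at hx
  -- `x ∈ M`
  have hxM : x ∈ M := by
    apply mem_sup_right
    rw [mem_centralizer_iff]
    intro y hy
    exact hx y ⟨hT hy, hKW (hSK (hP1S hy))⟩
  have hxA : π x ∈ A := ⟨x, hxM, rfl⟩
  have hxc : (⟨π x, hxA⟩ : A) ∈ centralizer ((pCore p A : Subgroup A) : Set A) := by
    rw [mem_centralizer_iff]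
    intro b hb
    obtain ⟨w, hw⟩ := hπs (b : G ⧸ K)
    have hwW : w ∈ W := by
      rw [hW, mem_comap, hw]
      exact ⟨b, hb, rfl⟩
    obtain ⟨k, hk, t, ht, hkt⟩ := mem_sup_of_normal_left.1 (hWle hwW)
    apply Subtype.ext
    show (b : G ⧸ K) * π x = π x * b
    have h1 : (b : G ⧸ K) = π t := by
      rw [← hw, ← hkt, map_mul]
      have h2 : π k = 1 := by rw [← MonoidHom.mem_ker, hker]; exact hk
      rw [h2, one_mul]
    rw [h1, ← map_mul, ← map_mul, hx t ht]
  have h3 := hHH hxc
  rw [hW, mem_comap]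
  exact ⟨⟨π x, hxA⟩, h3, rfl⟩

end Cfsg.Agent.H381.PB
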